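import Groth.Agent.Lib.PicLift3.Algebraize
import Groth.Agent.Lib.PicPn.TrivialFibres
import Groth.Agent.Lib.AmpleFib.FibVA
import Groth.Agent.Lib.FibIso5.Basic
import Groth.Agent.Lib.CohFound.ProjRelVan
import Groth.Agent.S3572
import Groth.Agent.S3573

/-!
# Deformations of projective space over a complete local ring
-/

set_option autoImplicit false
set_option linter.style.haveILetI false
set_option backward.isDefEq.respectTransparency false
set_option backward.isDefEq.respectTransparency.types false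

universe u

open CategoryTheory CategoryTheory.Limits AlgebraicGeometry TopologicalSpace

noncomputable section

namespace Groth.Agent.PnDef14

open Groth.Agent.ModLimH13 (res')
open Groth.Agent.VA11 (gl mem_gl_iff)

/-- The isomorphism identifying `O(1)` on a composite. -/
def compIso {F X P : Scheme.{u}} (ι : F ⟶ X) (r : X ⟶ P) {O1 : P.Modules} {L : X.Modules}
    (τ : (Scheme.Modules.pullback r).obj O1 ≅ L) {N : F.Modules}
    (τ₀ : N ≅ (Scheme.Modules.pullback ι).obj L) : (Scheme.Modules.pullback (ι ≫ r)).obj O1 ≅ N :=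
  ((ModLimH13.cmp ι r rfl).app O1).symm ≪≫ (Scheme.Modules.pullback ι).mapIso τ ≪≫ τ₀.symm

set_option maxHeartbeats 1000000 in
theorem compIso_app {F X P : Scheme.{u}} (ι : F ⟶ X) (r : X ⟶ P) {O1 : P.Modules} {L : X.Modules}
    (τ : (Scheme.Modules.pullback r).obj O1 ≅ L) {N : F.Modules}
    (τ₀ : N ≅ (Scheme.Modules.pullback ι).obj L) (v : Γ(O1, ⊤)) (e₁ : (⊤ : F.Opens) ≤ ι ⁻¹ᵁ ⊤)
    (e₀ : (⊤ : X.Opens) ≤ r ⁻¹ᵁ ⊤) (h : (⊤ : F.Opens) ≤ (ι ≫ r) ⁻¹ᵁ ⊤) :
    (compIso ι r τ τ₀).hom.app ⊤ (res' (ι ≫ r) O1 h v) =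
      τ₀.inv.app ⊤ (res' ι L e₁ (τ.hom.app ⊤ (res' r O1 e₀ v))) := by
  let cm := ModLimH13.cmp ι r (rfl : ι ≫ r = ι ≫ r)
  have h2 : (cm.inv.app O1).app ⊤ (res' (ι ≫ r) O1 h v) =
      res' ι ((Scheme.Modules.pullback r).obj O1) e₁ (res' r O1 e₀ v) := by
    have h' := ModLimH13.cmp_res' ι r O1 (rfl : ι ≫ r = ι ≫ r) e₀ e₁ v
    refine (congrArg (fun w => (cm.inv.app O1).app ⊤ w) h'.symm).trans ?_
    exact congrArg (fun φ : (Scheme.Modules.pullback ι).obj ((Scheme.Modules.pullback r).obj O1) ⟶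
      (Scheme.Modules.pullback ι).obj ((Scheme.Modules.pullback r).obj O1) =>
      φ.app ⊤ (res' ι _ e₁ (res' r O1 e₀ v))) (cm.hom_inv_id_app O1)
  show τ₀.inv.app ⊤ (((Scheme.Modules.pullback ι).map τ.hom).app ⊤ ((cm.inv.app O1).app ⊤ (res' (ι ≫ r) O1 h v))) = _
  rw [h2, ModLimH13.map_res']

theorem res'_top {X' P : Scheme.{u}} (g : X' ⟶ P) (M : P.Modules) (v : Γ(M, ⊤))
    (h : (⊤ : X'.Opens) ≤ g ⁻¹ᵁ ⊤) : res' g M h v = M2.pullSec g M v := M1.mres_id _ h _

theorem compIso_pullSec {F X P : Scheme.{u}} (ι : F ⟶ X) (r : X ⟶ P) {O1 : P.Modules} {L : X.Modules}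
    (τ : (Scheme.Modules.pullback r).obj O1 ≅ L) {N : F.Modules}
    (τ₀ : N ≅ (Scheme.Modules.pullback ι).obj L) (v : Γ(O1, ⊤)) (t : Γ(L, ⊤)) (w : Γ(N, ⊤))
    (hv : τ.hom.app ⊤ (M2.pullSec r O1 v) = t) (ht : M2.pullSec ι L t = τ₀.hom.app ⊤ w) :
    (compIso ι r τ τ₀).hom.app ⊤ (M2.pullSec (ι ≫ r) O1 v) = w := by
  have key := compIso_app ι r τ τ₀ v (fun _ _ => trivial) (fun _ _ => trivial) (fun _ _ => trivial)
  simp only [res'_top] at key
  erw [hv, ht] at key
  refine key.trans ?_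
  exact congrArg (fun φ : N ⟶ N => φ.app ⊤ w) τ₀.hom_inv_id

/-- Morphisms to `P^n` agreeing on their coordinate sections. -/
theorem comp_eq_of_secs {R : Type u} [CommRing R] {n : ℕ} {F X : Scheme.{u}} (ι : F ⟶ X) {L : X.Modules}
    (g : X ⟶ CohB1.ProjSpace n R) (ρ : F ⟶ CohB1.ProjSpace n R)
    (hbase : (ι ≫ g) ≫ CohB1.ProjSpace.toSpec n R = ρ ≫ CohB1.ProjSpace.toSpec n R)
    (τ : (Scheme.Modules.pullback g).obj (_root_.Twist.twistProjSpace n R 1) ≅ L)
    (τ₀ : (Scheme.Modules.pullback ρ).obj (_root_.Twist.twistProjSpace n R 1) ≅ (Scheme.Modules.pullback ι).obj L)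
    (s : Fin (n + 1) → Γ(L, ⊤))
    (hτ : ∀ i, τ.hom.app ⊤ (ProjUP.pullSec g (_root_.Twist.twistProjSpace n R 1) (ProjUP.coord n R i)) = s i)
    (hs : ∀ i, M2.pullSec ι L (s i) = AmpleFib.coordSec ρ τ₀ i) : ι ≫ g = ρ :=
  S3573.result n _ ρ hbase (compIso ι g τ τ₀) fun i => compIso_pullSec ι g τ τ₀ _ _ _ (hτ i) (hs i)

variable {A : Type u} [CommRing A] [IsLocalRing A] [IsNoetherianRing A]

/-- Sections of an invertible module on the closed fibre without `H¹` lift. -/
theorem exists_lift_closed {X : Scheme.{u}} (f : X ⟶ Spec (CommRingCat.of A)) [IsProper f] [Flat f]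
    {L : X.Modules} (hL : PicF.IsInvertible L)
    (h1 : Subsingleton (CohIII.fiberH f L (IsLocalRing.closedPoint A) 1))
    (σ : Γ((Scheme.Modules.pullback (f.fiberι (IsLocalRing.closedPoint A))).obj L, ⊤)) :
    ∃ s : Γ(L, ⊤), res' (f.fiberι (IsLocalRing.closedPoint A)) L
      (fun _ _ => trivial : (⊤ : (f.fiber (IsLocalRing.closedPoint A)).Opens) ≤ _ ⁻¹ᵁ ⊤) s = σ := by
  haveI : LocallyOfFinitePresentation f := LimH13.locallyOfFinitePresentation_of_noetherian f
  let S := Spec (CommRingCat.of A)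
  let y : S := IsLocalRing.closedPoint A
  let φ := S.fromSpecResidueField y
  let ι := f.fiberι y
  let ζ := f.fiberToSpecResidueField y
  have htop : ∀ U : S.Opens, y ∈ U → U = ⊤ := fun U hU =>
    top_le_iff.1 fun x _ => (IsLocalRing.specializes_closedPoint x).mem_open U.2 hU
  obtain ⟨V, hV, eW, hyV, H⟩ := AmpleFib.exists_lift f hL y h1
  obtain rfl := htop V hyV
  let σ' : Γ((Scheme.Modules.pullback ι).obj L, ζ ⁻¹ᵁ ⊤) := σ
  obtain ⟨b, s, e, hb, hbs⟩ := H σ'
  have hbu : IsUnit b := S.toRingedSpace.isUnit_of_isUnit_germ ⊤ b fun x hx =>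
    (S.mem_basicOpen b x hx).1 ((htop _ hb).ge hx)
  obtain ⟨c, hc⟩ := hbu.exists_left_inv
  refine ⟨f.app ⊤ c • s, ?_⟩
  have hι : ∀ d : Γ(S, ⊤), ι.appLE (f ⁻¹ᵁ ⊤) (ζ ⁻¹ᵁ ⊤) e (f.app ⊤ d) = ζ.app ⊤ (φ.appLE ⊤ ⊤ eW d) := fun d => by
    rw [← CommRingCat.comp_apply, ← CommRingCat.comp_apply, Scheme.Hom.app_eq_appLE,
      Scheme.Hom.app_eq_appLE, Scheme.Hom.appLE_comp_appLE, Scheme.Hom.appLE_comp_appLE]
    have hc : ∀ {g g' : f.fiber y ⟶ S} (_ : g = g') (h h'),
        g.appLE ⊤ (ζ ⁻¹ᵁ ⊤) h d = g'.appLE ⊤ (ζ ⁻¹ᵁ ⊤) h' d := by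
      rintro g _ rfl h h'; rfl
    exact hc (IsPullback.of_hasPullback f φ).w _ _
  show res' ι L e (f.app ⊤ c • s) = σ'
  rw [ModLimH13.res'_smul, hι, ← hbs]
  refine (mul_smul _ _ σ').symm.trans ?_
  refine (congrArg (· • σ') ?_).trans (one_smul _ σ')
  rw [← map_mul, ← map_mul, hc, map_one, map_one]

set_option maxHeartbeats 4000000 in
/-- A proper flat scheme over a complete local ring with closed fibre `P^r` is `P^r`. -/
theorem exists_iso [IsAdicComplete (IsLocalRing.maximalIdeal A) A] (r : ℕ) {X : Scheme.{u}}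
    (f : X ⟶ Spec (CommRingCat.of A)) [IsProper f] [Flat f]
    (e₀ : pullback f (Spec.map (CommRingCat.ofHom (IsLocalRing.residue A))) ≅
      CohB1.ProjSpace r (IsLocalRing.ResidueField A))
    (he₀ : e₀.hom ≫ CohB1.ProjSpace.toSpec r (IsLocalRing.ResidueField A) = pullback.snd f _) :
    ∃ e : X ≅ CohB1.ProjSpace r A, e.hom ≫ CohB1.ProjSpace.toSpec r A = f := by
  haveI : LocallyOfFinitePresentation f := LimH13.locallyOfFinitePresentation_of_noetherian f
  let k := IsLocalRing.ResidueField A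
  let S := Spec (CommRingCat.of A)
  let y : S := IsLocalRing.closedPoint A
  let ρR := Spec.map (CommRingCat.ofHom (IsLocalRing.residue A))
  let φ := S.fromSpecResidueField y
  let ψ : CommRingCat.of (IsLocalRing.ResidueField A) ≅ CommRingCat.of y.asIdeal.ResidueField :=
    (RingEquiv.ofBijective (algebraMap (A ⧸ IsLocalRing.maximalIdeal A) (IsLocalRing.maximalIdeal A).ResidueField)
      (Ideal.bijective_algebraMap_quotient_residueField _)).toCommRingCatIso
  let e : Spec (S.residueField y) ⟶ Spec (CommRingCat.of k) :=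
    Spec.map (ψ.hom ≫ (Scheme.Spec.residueFieldIso (CommRingCat.of A) y).inv)
  have he : e ≫ ρR = φ := by
    show _ = S.fromSpecResidueField y
    rw [← Scheme.Spec.map_residueFieldIso_inv_eq_fromSpecResidueField, ← Spec.map_comp, ← Spec.map_comp, ← Category.assoc]
    rfl
  haveI : IsIso e := inferInstance
  let c : f.fiber y ⟶ pullback f ρR := pullback.map f φ f ρR (𝟙 _) e (𝟙 _) (by simp) (by simp [he])
  haveI : IsIso c := inferInstance
  have hc : c ≫ pullback.fst f ρR = f.fiberι y := (pullback.lift_fst _ _ _).trans (Category.comp_id _)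
  let ι := f.fiberι y
  let Pk := CohB1.ProjSpace r k
  let P := CohB1.ProjSpace r A
  let mk' : Pk ⟶ P := ProjSpace.map r (IsLocalRing.residue A)
  have hsq : IsPullback mk' (CohB1.ProjSpace.toSpec r k) (CohB1.ProjSpace.toSpec r A) ρR :=
    ProjSpace.isPullback_map r (IsLocalRing.residue A)
  let a : f.fiber y ⟶ Pk := c ≫ e₀.hom
  let ρ : f.fiber y ⟶ P := a ≫ mk'
  have hρ : ρ ≫ CohB1.ProjSpace.toSpec r A = ι ≫ f := by
    show ((c ≫ e₀.hom) ≫ mk') ≫ CohB1.ProjSpace.toSpec r A = _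
    rw [Category.assoc, hsq.w, Category.assoc, ← Category.assoc e₀.hom, he₀, ← pullback.condition,
      ← Category.assoc, hc]
  let O1 := _root_.Twist.twistProjSpace r A 1
  -- the line bundle
  have h2 : Subsingleton (Coh.HH (pullback f ρR) (Coh.structureModule _) 2) := by
    refine CIPic27.subsingleton_HH_structure_of_iso e₀.hom 2 ?_
    obtain ⟨z⟩ := Twist.nonempty_twist_zero_iso (CohB1.polyGrading r k)
    exact AffStratVan4.subsingleton_HH_congr z 2 ((CohFound.subsingleton_HH_iff _ _).2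
      (CohFound.ProjNum.subsingleton_hc_Od (n := r) (R := k) (d := 0) 2 (by norm_num) (Or.inl (by omega))))
  obtain ⟨L, hL, ⟨θ⟩⟩ := PicLift3.picPullbackSurjective f h2
    ((Scheme.Modules.pullback e₀.hom).obj ((Scheme.Modules.pullback mk').obj O1))
    (PicLoc.isInvertible_pullback _ (PicLoc.isInvertible_pullback _ (Twist.isInvertible_twistProjSpace r A 1)))
  let τ₀ : (Scheme.Modules.pullback ρ).obj O1 ≅ (Scheme.Modules.pullback ι).obj L :=
    ((Scheme.Modules.pullbackComp a mk').app O1).symm ≪≫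
      ((Scheme.Modules.pullbackComp c e₀.hom).app _).symm ≪≫ (Scheme.Modules.pullback c).mapIso θ.symm ≪≫
      (Scheme.Modules.pullbackComp c (pullback.fst f ρR)).app L ≪≫ (Scheme.Modules.pullbackCongr hc).app L
  have h1 : Subsingleton (CohIII.fiberH f L y 1) := by
    obtain ⟨η⟩ := CohFound.nonempty_pullback_twistProjSpace r (IsLocalRing.residue A) 1
    refine AffStratVan4.subsingleton_HH_congr ((Scheme.Modules.pullback a).mapIso η.symm ≪≫
      (Scheme.Modules.pullbackComp a mk').app O1 ≪≫ τ₀) 1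
      ((MumVan22.subsingleton_HH_iso_iff a (Twist.isInvertible_twistProjSpace r k 1) 1).2 ?_)
    exact (CohFound.subsingleton_HH_iff _ _).2
      (CohFound.ProjNum.subsingleton_hc_Od (n := r) (R := k) (d := 1) 1 (by norm_num) (Or.inl (by omega)))
  -- the sections
  let σ := AmpleFib.coordSec ρ τ₀
  choose s hs using fun i => exists_lift_closed f hL h1 (σ i)
  have hcov : ∀ z : f.fiber y, ∃ i, ι z ∈ gl (s i) := fun z => by
    obtain ⟨i, hi⟩ := Opens.mem_iSup.1 ((ProjSpace.iSup_basicOpen r A).ge (Opens.mem_top (ρ z)))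
    refine ⟨i, ?_⟩
    have hz : z ∈ gl (σ i) := by
      rw [AmpleFib.gl_coordSec ρ τ₀ (PicLoc.isInvertible_pullback _ hL) i]
      exact hi
    rw [← hs i, AmpleFib.gl_res' ι hL] at hz
    exact hz.1
  let U : X.Opens := ⨆ i, gl (s i)
  have hU : U = ⊤ := by
    refine top_le_iff.1 fun x _ => by_contra fun hx => ?_
    have hcl : IsClosed (f '' (U : Set X)ᶜ) := f.isClosedMap _ U.2.isClosed_compl
    have hy : y ∈ f '' (U : Set X)ᶜ :=
      (IsLocalRing.specializes_closedPoint (f x)).mem_closed hcl ⟨x, hx, rfl⟩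
    obtain ⟨x', hx', hfx'⟩ := hy
    obtain ⟨z, rfl⟩ := (f.range_fiberι y).ge hfx'
    obtain ⟨i, hi⟩ := hcov z
    exact hx' (Opens.mem_iSup.2 ⟨i, hi⟩)
  have hgen : ProjUP.GeneratedBy L s := fun x => by
    obtain ⟨i, hi⟩ := Opens.mem_iSup.1 (hU.ge (Opens.mem_top x))
    have hg := (mem_gl_iff hL (Opens.mem_top x)).1 hi
    refine top_le_iff.1 fun m _ => ?_
    obtain ⟨d, rfl⟩ := hg.2 m
    exact Submodule.smul_mem _ d (Submodule.subset_span ⟨i, rfl⟩)
  obtain ⟨g, hg, τ, hτ⟩ := S3572.result r f L hL s hgen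
  have hρg : ι ≫ g = ρ :=
    comp_eq_of_secs ι g ρ (by rw [Category.assoc, hg, hρ]) τ τ₀ s hτ fun i => (res'_top ι L (s i) _).symm.trans (hs i)
  -- the map on fibres
  subst hg
  let h := CohB1.ProjSpace.toSpec r A
  have hsq' : IsPullback mk' (CohB1.ProjSpace.toSpec r k ≫ inv e) h φ :=
    IsPullback.of_iso hsq (Iso.refl _) (Iso.refl _) (asIso e).symm (Iso.refl _) (by simp) (by simp) (by simp [h])
      (by simp [← he])
  let m := CohIII.fiberMapOver g (g ≫ h) h rfl y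
  have hm : m = a ≫ hsq'.isoPullback.hom := by
    haveI : Mono (h.fiberι y) := inferInstanceAs (Mono (pullback.fst h φ))
    rw [← cancel_mono (h.fiberι y)]
    refine ((FibIso5.isPullback_fiberMapOver g h y).w.symm.trans hρg).trans ?_
    rw [Category.assoc]
    exact congrArg (a ≫ ·) hsq'.isoPullback_hom_fst.symm
  have hiso : IsIso m := by rw [hm]; infer_instance
  obtain ⟨W, hyW, hW⟩ := FibIso5.exists_nhd g h y hiso
  obtain rfl : W = ⊤ := top_le_iff.1 fun x _ => (IsLocalRing.specializes_closedPoint x).mem_open W.2 hyW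
  haveI : IsIso g := by
    have h' : IsIso (g ∣_ ⊤) := by simpa using hW
    exact ((MorphismProperty.isomorphisms Scheme).arrow_mk_iso_iff
      (Arrow.isoMk (Scheme.topIso X) (Scheme.topIso P) (morphismRestrict_ι g ⊤).symm)).1 h'
  exact ⟨asIso g, rfl⟩

end Groth.Agent.PnDef14
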